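import Cfsg.Agent.Lib.SL2Quadratic.Natural

/-!
Criteria for a good fixed element: quadratic action, or order at most the square of the fixed space.
-/

set_option autoImplicit false

open Matrix
open scoped MatrixGroups

namespace Cfsg.Agent.SL2Quadratic

open PSL2

variable {F : Type*} [Field F] [Fintype F] {A : Type*} [AddCommGroup A] [Finite A]
  {p : ℕ} [CharP F p] [Fact p.Prime] (r : SL(2, F) →* AddMonoid.End A)

/-- A fixed element modulo a proper invariant subgroup. -/
theorem exists_fixed_mod (hp : ∀ a : A, p • a = 0) (B : AddSubgroup A) (hB : B ≠ ⊤)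
    (hBinv : ∀ t, ∀ b ∈ B, r (uu t) b ∈ B) :
    ∃ a, a ∉ B ∧ ∀ t, r (uu t) a - a ∈ B := by
  classical
  let act : Multiplicative F → A ⧸ B → A ⧸ B := fun t =>
    QuotientAddGroup.map B B (r (uu t.toAdd)) (fun b hb => hBinv _ b hb)
  let _ : MulAction (Multiplicative F) (A ⧸ B) :=
    { smul := act
      one_smul := fun x => QuotientAddGroup.induction_on x fun a => by
        show (QuotientAddGroup.mk (r (uu (0 : F)) a) : A ⧸ B) = _
        rw [uu_zero, r_one]
      mul_smul := fun s t x => QuotientAddGroup.induction_on x fun a => by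
        show (QuotientAddGroup.mk (r (uu (s.toAdd + t.toAdd)) a) : A ⧸ B) =
          QuotientAddGroup.mk (r (uu s.toAdd) (r (uu t.toAdd) a))
        rw [← uu_mul_uu, r_mul] }
  have hFp : IsPGroup p (Multiplicative F) := fun x => ⟨1, by
    rw [pow_one]
    exact Multiplicative.toAdd.injective (by
      rw [toAdd_pow, nsmul_eq_mul, CharP.cast_eq_zero, zero_mul, toAdd_one])⟩
  obtain ⟨a, ha⟩ : ∃ a, a ∉ B := not_forall.mp fun h => hB (eq_top_iff.mpr fun a _ => h a)
  have ha' : (a : A ⧸ B) ≠ 0 := fun e => ha ((QuotientAddGroup.eq_zero_iff a).mp e)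
  have hord : addOrderOf (a : A ⧸ B) = p :=
    addOrderOf_eq_prime (by rw [← QuotientAddGroup.mk_nsmul, hp, QuotientAddGroup.mk_zero]) ha'
  have h0 : (0 : A ⧸ B) ∈ MulAction.fixedPoints (Multiplicative F) (A ⧸ B) := fun t =>
    map_zero (QuotientAddGroup.map B B (r (uu t.toAdd)) fun b hb => hBinv _ b hb)
  obtain ⟨x, hx, hx0⟩ := hFp.exists_fixed_point_of_prime_dvd_card_of_fixed_point (A ⧸ B)
    (hord ▸ addOrderOf_dvd_natCard _) h0
  obtain ⟨b, rfl⟩ := QuotientAddGroup.mk_surjective x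
  refine ⟨b, fun e => hx0 ((QuotientAddGroup.eq_zero_iff b).mpr e).symm, fun t => ?_⟩
  have h := hx (Multiplicative.ofAdd t)
  change (QuotientAddGroup.mk (r (uu t) b) : A ⧸ B) = QuotientAddGroup.mk b at h
  exact QuotientAddGroup.eq_iff_sub_mem.mp h

theorem fix_ne_bot (hp : ∀ a : A, p • a = 0) (hA : ∃ a : A, a ≠ 0) : fix r ≠ ⊥ := by
  obtain ⟨a, ha⟩ := hA
  obtain ⟨x, hx, hfix⟩ := exists_fixed_mod r hp ⊥
    (fun e => ha (AddSubgroup.mem_bot.mp (e ▸ AddSubgroup.mem_top a)))
    (fun t b hb => by rw [AddSubgroup.mem_bot] at hb ⊢; rw [hb, map_zero])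
  intro e
  exact hx (e ▸ fun t => sub_eq_zero.mp (AddSubgroup.mem_bot.mp (hfix t)))

/-- Quadratic action. -/
theorem good_ne_bot_of_quadratic (hp : ∀ a : A, p • a = 0) (hA : ∃ a : A, a ≠ 0)
    (hquad : ∀ a t, r (uu t) a - a ∈ fix r) : good r ≠ ⊥ := by
  have h : good r = fix r := le_antisymm (fun a ha => ha.1) fun a ha => ⟨ha, hquad _⟩
  rw [h]
  exact fix_ne_bot r hp hA

omit [Fintype F] [Finite A] [Fact p.Prime] [CharP F p] in
/-- An element fixed by both unipotent radicals is zero. -/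
theorem eq_zero_of_mem_fix (hirr : Irred r) (hnt : ∃ g a, r g a ≠ a) :
    ∀ a ∈ fix r, r wI a ∈ fix r → a = 0 := by
  intro a ha hwa
  let U : AddSubgroup A :=
    { carrier := {b | ∀ g, r g b = b}
      zero_mem' := fun g => map_zero _
      add_mem' := fun {x y} hx hy g => by rw [map_add, hx, hy]
      neg_mem' := fun {x} hx g => by rw [map_neg, hx] }
  have haU : a ∈ U := by
    let H : Subgroup SL(2, F) :=
      { carrier := {g | r g a = a}
        one_mem' := r_one r a
        mul_mem' := fun {g h} (hg : r g a = a) (hh : r h a = a) => by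
          show r (g * h) a = a
          rw [r_mul, hh, hg]
        inv_mem' := fun {g} (hg : r g a = a) => by
          show r g⁻¹ a = a
          conv_lhs => rw [← hg]
          rw [← r_mul, inv_mul_cancel, r_one] }
    have hH : H = ⊤ := by
      refine eq_top_of_uu_ll ha fun s => ?_
      have h' : r (dd (-1)) (r wI a) ∈ fix r := dd_mem_fix r _ hwa
      show r (ll s) a = a
      have e : r (dd (-1)) a = r wI (r wI a) := by rw [← r_mul, wI_mul_wI]
      rw [ll_eq, r_mul, r_mul, r_mul, e, show r wI (r wI (r wI a)) = r (dd (-1)) (r wI a) by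
        rw [← r_mul, wI_mul_wI], h', ← r_mul, ← r_mul, mul_assoc, dd_mul_wI, inv_neg, inv_one, ← mul_assoc,
        wI_mul_wI, dd_mul_dd, show (-1 : Fˣ) * -1 = 1 by simp, dd_one, r_one]
    intro g
    exact show g ∈ H by rw [hH]; trivial
  rcases hirr U (fun g b hb => by rw [hb g]; exact hb) with e | e
  · exact AddSubgroup.mem_bot.mp (e ▸ haU)
  · obtain ⟨g, b, hb⟩ := hnt
    exact absurd ((e ▸ AddSubgroup.mem_top b : b ∈ U) g) hb

/-- Small module. -/
theorem good_ne_bot_of_card (hp : ∀ a : A, p • a = 0) (hA : ∃ a : A, a ≠ 0)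
    (hdis : ∀ a ∈ fix r, r wI a ∈ fix r → a = 0)
    (hcard : Nat.card A ≤ Nat.card ↥(fix r) ^ 2) : good r ≠ ⊥ := by
  let f : ↥(fix r) × ↥(fix r) →+ A :=
    AddMonoidHom.mk' (fun q => (q.1 : A) + r wI q.2) fun q q' => by
      simp only [Prod.fst_add, Prod.snd_add, AddSubgroup.coe_add, map_add]; abel
  have hinj : Function.Injective f := (injective_iff_map_eq_zero f).mpr fun ⟨a, b⟩ h => by
    change (a : A) + r wI b = 0 at h
    have hb : (b : A) = 0 := hdis _ b.2 (by rw [eq_neg_of_add_eq_zero_right h]; exact neg_mem a.2)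
    rw [hb, map_zero, add_zero] at h
    exact Prod.ext (Subtype.ext h) (Subtype.ext hb)
  have hsurj : Function.Surjective f := (hinj.bijective_of_nat_card_le (by
    rw [Nat.card_prod, ← pow_two]; exact hcard)).2
  have hne : fix r ≠ ⊤ := by
    intro e
    obtain ⟨a, ha⟩ := hA
    exact ha (hdis a (e ▸ AddSubgroup.mem_top a) (e ▸ AddSubgroup.mem_top _))
  obtain ⟨a, ha, hfix⟩ := exists_fixed_mod r hp (fix r) hne fun t b hb => by rw [hb]; exact hb
  obtain ⟨⟨x, y⟩, rfl⟩ := hsurj a
  intro e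
  have hy : (y : A) ∈ good r := ⟨y.2, fun t => by
    have h := hfix t
    change r (uu t) ((x : A) + r wI y) - ((x : A) + r wI y) ∈ fix r at h
    rwa [map_add, x.2, add_sub_add_left_eq_sub] at h⟩
  rw [e, AddSubgroup.mem_bot] at hy
  refine ha ?_
  show (x : A) + r wI y ∈ fix r
  rw [hy, map_zero, add_zero]
  exact x.2

end Cfsg.Agent.SL2Quadratic
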