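import Cfsg.Agent.Lib.SL2Quadratic.Relations

/-!
A nontrivial irreducible `SL(2, F)`-module of characteristic `p` on which some element of the
opposite fixed space is moved by the unipotent radical into the fixed space only (in particular a
quadratic module, or a module of order at most the square of its fixed space) is natural.
-/

set_option autoImplicit false

open Matrix
open scoped MatrixGroups

namespace Cfsg.Agent.SL2Quadratic

open PSL2

variable {F : Type*} [Field F] {A : Type*} [AddCommGroup A] (r : SL(2, F) →* AddMonoid.End A)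

theorem r_mul (g h : SL(2, F)) (a : A) : r (g * h) a = r g (r h a) := by
  rw [map_mul]; rfl

theorem r_one (a : A) : r 1 a = a := by
  rw [map_one]; rfl

theorem r_injective (g : SL(2, F)) : Function.Injective (r g) :=
  Function.LeftInverse.injective (g := r g⁻¹) fun a => by rw [← r_mul, inv_mul_cancel, r_one]

/-- Irreducibility. -/
def Irred : Prop :=
  ∀ U : AddSubgroup A, (∀ g, ∀ a ∈ U, r g a ∈ U) → U = ⊥ ∨ U = ⊤

/-- The fixed space of the unipotent radical. -/
def fix : AddSubgroup A where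
  carrier := {a | ∀ t, r (uu t) a = a}
  zero_mem' t := map_zero _
  add_mem' {a b} ha hb t := by rw [map_add, ha, hb]
  neg_mem' {a} ha t := by rw [map_neg, ha]

theorem mem_fix {a : A} : a ∈ fix r ↔ ∀ t, r (uu t) a = a := Iff.rfl

theorem dd_mem_fix (a : Fˣ) {x : A} (hx : x ∈ fix r) : r (dd a) x ∈ fix r := fun t => by
  rw [← r_mul, show uu t * dd a = dd a * uu (((a⁻¹ : Fˣ) : F) ^ 2 * t) by
    rw [dd_mul_uu, ← mul_assoc, ← mul_pow]; simp, r_mul, hx]

/-- The part of the fixed space whose opposite is moved only into the fixed space. -/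
def good : AddSubgroup A where
  carrier := {a | a ∈ fix r ∧ ∀ t, r (uu t) (r wI a) - r wI a ∈ fix r}
  zero_mem' := ⟨zero_mem _, fun t => by simp⟩
  add_mem' {a b} ha hb := ⟨add_mem ha.1 hb.1, fun t => by
    have h := add_mem (ha.2 t) (hb.2 t)
    rwa [sub_add_sub_comm, ← map_add, ← map_add] at h⟩
  neg_mem' {a} ha := ⟨neg_mem ha.1, fun t => by
    have h := neg_mem (ha.2 t)
    rwa [neg_sub, ← neg_sub_neg, ← map_neg, ← map_neg] at h⟩

theorem mem_good {a : A} :
    a ∈ good r ↔ a ∈ fix r ∧ ∀ t, r (uu t) (r wI a) - r wI a ∈ fix r := Iff.rfl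

theorem dd_mem_good (a : Fˣ) {x : A} (hx : x ∈ good r) : r (dd a) x ∈ good r := by
  refine ⟨dd_mem_fix r a hx.1, fun t => ?_⟩
  have hw : r wI (r (dd a) x) = r (dd a⁻¹) (r wI x) := by
    rw [← r_mul, ← r_mul, dd_mul_wI, inv_inv]
  rw [hw, ← r_mul, show uu t * dd a⁻¹ = dd a⁻¹ * uu ((a : F) ^ 2 * t) by
    rw [dd_mul_uu, ← mul_assoc, ← mul_pow]; simp, r_mul, ← map_sub]
  exact dd_mem_fix r _ (hx.2 _)

/-- The submodule spanned by the `uu t`-translates of `wI M`. -/
def span (M : AddSubgroup A) : AddSubgroup A :=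
  AddSubgroup.closure {b | ∃ t, ∃ m ∈ M, r (uu t) (r wI m) = b}

theorem mem_span {M : AddSubgroup A} (t : F) {m : A} (hm : m ∈ M) :
    r (uu t) (r wI m) ∈ span r M :=
  AddSubgroup.subset_closure ⟨t, m, hm, rfl⟩

theorem map_mem_span {M : AddSubgroup A} (f : AddMonoid.End A) {U : AddSubgroup A}
    (h : ∀ t, ∀ m ∈ M, f (r (uu t) (r wI m)) ∈ U) : ∀ b ∈ span r M, f b ∈ U := by
  intro b hb
  refine AddSubgroup.closure_induction ?_ ?_ ?_ ?_ hb
  · rintro _ ⟨t, m, hm, rfl⟩; exact h t m hm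
  · rw [map_zero]; exact zero_mem _
  · intro x y _ _ hx hy; rw [map_add]; exact add_mem hx hy
  · intro x _ hx; rw [map_neg]; exact neg_mem hx

theorem dd_mem_span {M : AddSubgroup A} (hT : ∀ a, ∀ m ∈ M, r (dd a) m ∈ M) (a : Fˣ) :
    ∀ b ∈ span r M, r (dd a) b ∈ span r M :=
  map_mem_span r _ fun t m hm => by
    rw [← r_mul, ← r_mul, dd_mul_uu, mul_assoc _ (dd a), dd_mul_wI, ← mul_assoc,
      r_mul, r_mul]
    exact mem_span r _ (hT _ m hm)

/-- A torus-stable part of the fixed space contained in its span gives an invariant span. -/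
theorem span_invariant {M : AddSubgroup A} (hM : M ≤ fix r) (hT : ∀ a, ∀ m ∈ M, r (dd a) m ∈ M)
    (hsp : M ≤ span r M) : ∀ g, ∀ b ∈ span r M, r g b ∈ span r M := by
  have hu : ∀ s, ∀ b ∈ span r M, r (uu s) b ∈ span r M := fun s =>
    map_mem_span r _ fun t m hm => by
      rw [← r_mul, uu_mul_uu]; exact mem_span r _ hm
  have hw : ∀ b ∈ span r M, r wI b ∈ span r M := map_mem_span r _ fun t m hm => by
    rcases eq_or_ne t 0 with rfl | ht
    · rw [uu_zero, r_one, ← r_mul, wI_mul_wI]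
      exact hsp (hT _ m hm)
    · rw [← r_mul, ← r_mul, show t = ((Units.mk0 t ht : Fˣ) : F) from rfl, wI_mul_uu_mul_wI, r_mul,
        hM hm, r_mul, r_mul]
      exact mem_span r _ (hT _ m hm)
  let H : Subgroup SL(2, F) :=
    { carrier := {g | (∀ b ∈ span r M, r g b ∈ span r M) ∧ ∀ b ∈ span r M, r g⁻¹ b ∈ span r M}
      one_mem' := ⟨fun b hb => by rwa [r_one], fun b hb => by rwa [inv_one, r_one]⟩
      mul_mem' := fun {g h} hg hh =>
        ⟨fun b hb => by rw [r_mul]; exact hg.1 _ (hh.1 b hb),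
          fun b hb => by rw [_root_.mul_inv_rev, r_mul]; exact hh.2 _ (hg.2 b hb)⟩
      inv_mem' := fun {g} hg => ⟨hg.2, by rw [inv_inv]; exact hg.1⟩ }
  have hH : H = ⊤ := by
    refine eq_top_of_uu_wI (fun t => ⟨hu t, fun b hb => ?_⟩) ⟨hw, fun b hb => ?_⟩
    · rw [uu_inv]; exact hu _ b hb
    · have he : (wI : SL(2, F))⁻¹ = wI * (wI * wI) := by
        rw [inv_eq_iff_mul_eq_one, ← mul_assoc, wI_mul_wI, dd_mul_dd]; simp
      rw [he, r_mul, r_mul]
      exact hw _ (hw _ (hw b hb))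
  intro g
  exact (show g ∈ H by rw [hH]; trivial).1

/-- In a field with more than two elements the unipotent sum kills `wI x` for good `x`. -/
theorem sum_eq_zero [Fintype F] {p : ℕ} [CharP F p] (hp : ∀ a : A, p • a = 0)
    (hq : Fintype.card F ≠ 2) {x : A} (hx : x ∈ good r) :
    ∑ t : F, r (uu t) (r wI x) = 0 := by
  let c : F →+ A :=
    AddMonoidHom.mk' (fun t => r (uu t) (r wI x) - r wI x) fun s t => by
      rw [← uu_mul_uu, r_mul]
      have h : r (uu s) (r (uu t) (r wI x) - r wI x) = r (uu t) (r wI x) - r wI x := hx.2 t s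
      rw [map_sub] at h
      linear_combination (norm := abel) h
  have hs : ∑ t : F, t = 0 := by
    have h3 : 1 < Fintype.card F - 1 := by
      have := Fintype.one_lt_card (α := F); omega
    simpa using FiniteField.sum_pow_lt_card_sub_one (K := F) 1 h3
  have hc : ∑ t : F, c t = 0 := by rw [← map_sum, hs, map_zero]
  have e : ∀ t : F, r (uu t) (r wI x) = c t + r wI x := fun t => by
    simp [c]
  simp only [e, Finset.sum_add_distrib, hc, zero_add, Finset.sum_const, Finset.card_univ]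
  obtain ⟨n, hp', hn⟩ := FiniteField.card F p
  rw [hn, ← PNat.natPred_add_one n, pow_succ, mul_smul, hp, smul_zero]

/-- A vanishing unipotent sum puts the point at infinity into the span. -/
theorem mem_span_of_sum_eq_zero [Fintype F] {M : AddSubgroup A} (hM : M ≤ fix r)
    (hT : ∀ a, ∀ m ∈ M, r (dd a) m ∈ M) {x : A} (hx : x ∈ M)
    (h : ∑ t : F, r (uu t) (r wI x) = 0) : x ∈ span r M := by
  classical
  have h2 : ∑ t : F, r wI (r (uu t) (r wI x)) = 0 := by rw [← map_sum, h, map_zero]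
  rw [← Finset.add_sum_erase _ _ (Finset.mem_univ (0 : F)), uu_zero, r_one, ← r_mul, wI_mul_wI,
    add_eq_zero_iff_eq_neg] at h2
  have h3 : r (dd (-1)) x ∈ span r M := by
    rw [h2]
    refine neg_mem (sum_mem fun t ht => ?_)
    rw [← r_mul, ← r_mul, show t = ((Units.mk0 t (Finset.ne_of_mem_erase ht) : Fˣ) : F) from rfl,
      wI_mul_uu_mul_wI, r_mul, hM hx, r_mul, r_mul]
    exact mem_span r _ (hT _ x hx)
  have h4 := dd_mem_span r hT (-1) _ h3
  rwa [← r_mul, dd_mul_dd, show (-1 : Fˣ) * -1 = 1 by simp, dd_one, r_one] at h4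

/-- A good element in the span of its own translates, for the field with two elements. -/
theorem exists_mem_span_two [Fintype F] (hp : ∀ a : A, (2 : ℕ) • a = 0)
    (hq : Fintype.card F = 2) (hne : good r ≠ ⊥) :
    ∃ x ∈ good r, x ≠ 0 ∧ x ∈ span r (AddSubgroup.zmultiples x) := by
  classical
  have huniv : (Finset.univ : Finset F) = {0, 1} := by
    symm
    rw [← Finset.card_eq_iff_eq_univ, Finset.card_pair zero_ne_one, hq]
  have h11 : (1 : F) + 1 = 0 := by
    have h := FiniteField.cast_card_eq_zero F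
    rw [hq] at h
    push_cast at h
    rwa [one_add_one_eq_two]
  have hneg1 : (-1 : F) = 1 := neg_eq_of_add_eq_zero_right h11
  have hdd : dd (-1 : Fˣ) = (1 : SL(2, F)) := by
    rw [show (-1 : Fˣ) = 1 from Units.ext hneg1, dd_one]
  have hneg : ∀ a : A, -a = a := fun a => neg_eq_of_add_eq_zero_right (by rw [← two_nsmul]; exact hp a)
  have hsub : ∀ a b : A, a - b = a + b := fun a b => by rw [sub_eq_add_neg, hneg]
  have hww : ∀ a, r wI (r wI a) = a := fun a => by rw [← r_mul, wI_mul_wI, hdd, r_one]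
  have huu : ∀ a, r (uu 1) (r (uu 1) a) = a := fun a => by
    rw [← r_mul, uu_mul_uu, h11, uu_zero, r_one]
  have hbraid : ∀ a, r wI (r (uu 1) (r wI a)) = r (uu 1) (r wI (r (uu 1) a)) := fun a => by
    have h := wI_mul_uu_mul_wI (1 : Fˣ)
    simp only [Units.val_one, inv_one, hneg1, dd_one, mul_one] at h
    rw [← r_mul, ← r_mul, h, r_mul, r_mul]
  obtain ⟨⟨x, hx⟩, hx0⟩ := (AddSubgroup.ne_bot_iff_exists_ne_zero).mp hne
  have hx0' : x ≠ 0 := fun e => hx0 (Subtype.ext e)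
  set y := r wI x + r (uu 1) (r wI x) with hy
  rcases eq_or_ne y x with hyx | hyx
  · refine ⟨x, hx, hx0', ?_⟩
    have := add_mem (mem_span r 0 (AddSubgroup.mem_zmultiples x))
      (mem_span r 1 (AddSubgroup.mem_zmultiples x))
    rw [uu_zero, r_one, ← hy, hyx] at this
    exact this
  · have hyf : y ∈ fix r := by
      rw [hy, add_comm, ← hsub]; exact hx.2 1
    have hwy : r wI y = x + r (uu 1) (r wI x) := by
      rw [hy, map_add, hww, hbraid, hx.1 1]
    have hey : r wI y + r (uu 1) (r wI y) = y := by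
      rw [hwy, map_add, huu, hx.1 1, hy]
      calc _ = (x + x) + (r wI x + r (uu 1) (r wI x)) := by abel
        _ = _ := by rw [← two_nsmul, hp, zero_add]
    have hyg : y ∈ good r := by
      refine ⟨hyf, fun t => ?_⟩
      rcases (show t = 0 ∨ t = 1 by simpa [huniv] using Finset.mem_univ t) with rfl | rfl
      · rw [uu_zero, r_one, sub_self]; exact zero_mem _
      · rw [hsub, add_comm, hey]; exact hyf
    refine ⟨y - x, sub_mem hyg hx, sub_ne_zero.mpr hyx, ?_⟩
    refine mem_span_of_sum_eq_zero r ?_ ?_ (AddSubgroup.mem_zmultiples _) ?_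
    · rw [AddSubgroup.zmultiples_le]; exact (sub_mem hyg hx).1
    · intro a m hm
      have ha : (a : F) = 1 := by
        rcases (show (a : F) = 0 ∨ (a : F) = 1 by simpa [huniv] using Finset.mem_univ (a : F)) with e | e
        · exact absurd e a.ne_zero
        · exact e
      rwa [show a = 1 from Units.ext ha, dd_one, r_one]
    · rw [huniv, Finset.sum_pair zero_ne_one, uu_zero, r_one, map_sub, map_sub]
      rw [sub_add_sub_comm, hey, ← hy, sub_self]

theorem exists_minimal [Finite A] {W₀ : AddSubgroup A} (hne : W₀ ≠ ⊥)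
    (hT : ∀ a, ∀ m ∈ W₀, r (dd a) m ∈ W₀) :
    ∃ M ≤ W₀, M ≠ ⊥ ∧ (∀ a, ∀ m ∈ M, r (dd a) m ∈ M) ∧
      ∀ N ≤ M, (∀ a, ∀ m ∈ N, r (dd a) m ∈ N) → N = ⊥ ∨ N = M := by
  obtain ⟨M, hM, hmin⟩ := Finite.exists_le_minimal
    (p := fun N : AddSubgroup A => N ≠ ⊥ ∧ ∀ a, ∀ m ∈ N, r (dd a) m ∈ N) ⟨hne, hT⟩
  exact ⟨M, hM, hmin.prop.1, hmin.prop.2, fun N hN hNT =>
    or_iff_not_imp_left.mpr fun hN0 => le_antisymm hN (hmin.2 ⟨hN0, hNT⟩ hN)⟩

/-- The structure of the module: the fixed space is torus-irreducible, all of it is good, and it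
together with its opposite is everything. -/
theorem structure_of_good [Fintype F] [Finite A] {p : ℕ} [CharP F p] [Fact p.Prime]
    (hp : ∀ a : A, p • a = 0) (hirr : Irred r)
    (hdis : ∀ a ∈ fix r, r wI a ∈ fix r → a = 0) (hne : good r ≠ ⊥) :
    good r = fix r ∧ (fix r).map (r wI) ⊔ fix r = ⊤ ∧
      ∀ N ≤ fix r, (∀ a, ∀ m ∈ N, r (dd a) m ∈ N) → N = ⊥ ∨ N = fix r := by
  obtain ⟨M, hMg, hM0, hMT, hMmin, x, hxM, hx0, hxs⟩ : ∃ M ≤ good r, M ≠ ⊥ ∧
      (∀ a, ∀ m ∈ M, r (dd a) m ∈ M) ∧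
      (∀ N ≤ M, (∀ a, ∀ m ∈ N, r (dd a) m ∈ N) → N = ⊥ ∨ N = M) ∧
      ∃ x ∈ M, x ≠ 0 ∧ x ∈ span r M := by
    by_cases hq : Fintype.card F = 2
    · have hp2 : p = 2 := by
        obtain ⟨n, hp', hn⟩ := FiniteField.card F p
        rw [hq] at hn
        exact (Nat.prime_dvd_prime_iff_eq hp' Nat.prime_two).mp
          (hn ▸ dvd_pow_self p n.ne_zero)
      subst hp2
      obtain ⟨x, hxg, hx0, hxs⟩ := exists_mem_span_two r hp hq hne
      have hdd : ∀ a : Fˣ, a = 1 := fun a => by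
        have h := FiniteField.pow_card_sub_one_eq_one (a : F) a.ne_zero
        rw [hq] at h
        exact Units.ext (by simpa using h)
      refine ⟨AddSubgroup.zmultiples x, by rwa [AddSubgroup.zmultiples_le],
        by rwa [Ne, AddSubgroup.zmultiples_eq_bot], fun a m hm => by rwa [hdd a, dd_one, r_one],
        fun N hN _ => ?_, x, AddSubgroup.mem_zmultiples x, hx0, hxs⟩
      refine or_iff_not_imp_left.mpr fun hN0 => le_antisymm hN ?_
      obtain ⟨⟨y, hy⟩, hy0⟩ := (AddSubgroup.ne_bot_iff_exists_ne_zero).mp hN0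
      obtain ⟨k, hk⟩ := AddSubgroup.mem_zmultiples_iff.mp (hN hy)
      rw [AddSubgroup.zmultiples_le]
      have h2x : (2 : ℤ) • x = 0 := by rw [two_zsmul, ← two_nsmul]; exact hp x
      rcases Int.even_or_odd k with ⟨j, rfl⟩ | ⟨j, rfl⟩
      · rw [← two_mul, mul_comm, mul_smul, h2x, smul_zero] at hk
        exact absurd (Subtype.ext hk.symm) hy0
      · rw [add_smul, one_smul, mul_comm, mul_smul, h2x, smul_zero, zero_add] at hk
        rwa [hk]
    · obtain ⟨M, hMg, hM0, hMT, hMmin⟩ := exists_minimal r hne fun a m => dd_mem_good r a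
      obtain ⟨⟨x, hx⟩, hx0⟩ := (AddSubgroup.ne_bot_iff_exists_ne_zero).mp hM0
      exact ⟨M, hMg, hM0, hMT, hMmin, x, hx, fun e => hx0 (Subtype.ext e),
        mem_span_of_sum_eq_zero r (hMg.trans fun a ha => ha.1) hMT hx
          (sum_eq_zero r hp hq (hMg hx))⟩
  have hMf : M ≤ fix r := hMg.trans fun a ha => ha.1
  have hsp : M ≤ span r M := by
    rcases hMmin (M ⊓ span r M) inf_le_left
      (fun a m hm => ⟨hMT a m hm.1, dd_mem_span r hMT a m hm.2⟩) with e | e
    · exact absurd (AddSubgroup.mem_bot.mp (e ▸ (⟨hxM, hxs⟩ : x ∈ M ⊓ span r M))) hx0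
    · exact inf_eq_left.mp e
  have htop : span r M = ⊤ := (hirr _ (span_invariant r hMf hMT hsp)).resolve_left fun e =>
    hx0 (AddSubgroup.mem_bot.mp (e ▸ hxs))
  have hle : span r M ≤ M.map (r wI) ⊔ fix r := by
    rw [span, AddSubgroup.closure_le]
    rintro _ ⟨t, m, hm, rfl⟩
    rw [← sub_add_cancel (r (uu t) (r wI m)) (r wI m)]
    exact add_mem (AddSubgroup.mem_sup_right ((hMg hm).2 t))
      (AddSubgroup.mem_sup_left ⟨m, hm, rfl⟩)
  have hfM : fix r = M := by
    refine le_antisymm (fun y hy => ?_) hMf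
    obtain ⟨_, ⟨m, hm, rfl⟩, v, hv, e⟩ :=
      AddSubgroup.mem_sup.mp (hle (htop ▸ AddSubgroup.mem_top (r wI y)))
    have h0 : y - m = 0 := hdis _ (sub_mem hy (hMf hm)) (by
      have e2 : r wI m + v = r wI y := e
      rw [map_sub, ← e2, show r wI m + v - r wI m = v by abel]; exact hv)
    rwa [sub_eq_zero.mp h0]
  refine ⟨le_antisymm (fun a ha => ha.1) (hfM ▸ hMg), ?_, hfM ▸ hMmin⟩
  rw [eq_top_iff, ← htop]
  exact hfM ▸ hle

/-- The natural module. -/
theorem exists_equiv [Fintype F] [Finite A] {p : ℕ} [CharP F p] [Fact p.Prime]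
    (hp : ∀ a : A, p • a = 0) (hirr : Irred r)
    (hdis : ∀ a ∈ fix r, r wI a ∈ fix r → a = 0) (hne : good r ≠ ⊥) :
    ∃ e : (Fin 2 → F) ≃+ A, ∀ (g : SL(2, F)) (v : Fin 2 → F),
      r g (e v) = e ((g : Matrix (Fin 2) (Fin 2) F) *ᵥ v) := by
  classical
  obtain ⟨hgood, hsup, hTirr⟩ := structure_of_good r hp hirr hdis hne
  have huniq : ∀ a ∈ fix r, ∀ b ∈ fix r, a + r wI b = 0 → a = 0 ∧ b = 0 := by
    intro a ha b hb h
    have hb0 : b = 0 := hdis b hb (by rw [eq_neg_of_add_eq_zero_right h]; exact neg_mem ha)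
    exact ⟨by rwa [hb0, map_zero, add_zero] at h, hb0⟩
  -- the displacement
  set Φ : F → A → A := fun t a => r (uu t) (r wI a) - r wI a with hΦ
  have hΦmem : ∀ a ∈ fix r, ∀ t, Φ t a ∈ fix r := fun a ha => (hgood.symm ▸ ha : a ∈ good r).2
  have hu : ∀ a, ∀ t, r (uu t) (r wI a) = Φ t a + r wI a := fun a t => (sub_add_cancel _ _).symm
  have hneg : ∀ a, r wI (r wI a) = r (dd (-1)) a := fun a => by rw [← r_mul, wI_mul_wI]
  have key : ∀ a ∈ fix r, ∀ t : Fˣ,
      a + Φ (t : F) (Φ ((t⁻¹ : Fˣ) : F) (r (dd (-1)) a)) + r (dd (-1)) (r (dd (-1)) a) = a ∧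
      Φ ((t⁻¹ : Fˣ) : F) (r (dd (-1)) a) = r (dd t⁻¹) (r (dd (-1)) a) := by
    intro a ha t
    set e := r (dd (-1)) a
    have hef : e ∈ fix r := dd_mem_fix r _ ha
    have hee : r (dd (-1)) e = a := by
      rw [← r_mul, dd_mul_dd, show (-1 : Fˣ) * -1 = 1 by simp, dd_one, r_one]
    set c := Φ ((t⁻¹ : Fˣ) : F) e with hc
    have hcf : c ∈ fix r := hΦmem e hef _
    have h := congrArg (fun g => r g a) (uu_ll_uu t)
    simp only [r_mul, ll_eq, neg_neg] at h
    rw [ha] at h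
    change r (uu (t : F)) (r wI (r (uu ((t⁻¹ : Fˣ) : F)) (r wI e))) = r (dd t) (r wI e) at h
    rw [hu e, map_add, hneg, hee, ← hc, map_add, ha, hu c] at h
    have h' : r (dd t) (r wI e) = r wI (r (dd t⁻¹) e) := by rw [← r_mul, dd_mul_wI, r_mul]
    rw [h'] at h
    have h0 : (Φ (t : F) c + a) + r wI (c - r (dd t⁻¹) e) = 0 := by
      rw [map_sub, ← h]; abel
    obtain ⟨h1, h2⟩ := huniq _ (add_mem (hΦmem c hcf _) ha) _
      (sub_mem hcf (dd_mem_fix r _ hef)) h0
    exact ⟨by rw [add_comm a, h1, zero_add, hee], sub_eq_zero.mp h2⟩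
  have hΦd : ∀ a ∈ fix r, ∀ t : Fˣ, Φ (t : F) a = r (dd t) a := by
    intro a ha t
    have := (key (r (dd (-1)) a) (dd_mem_fix r _ ha) t⁻¹).2
    rwa [inv_inv, ← r_mul _ (dd (-1)) (dd (-1)), dd_mul_dd, show (-1 : Fˣ) * -1 = 1 by simp, dd_one,
      r_one] at this
  have hΦ0 : ∀ a, Φ 0 a = 0 := fun a => by simp [hΦ]
  have hΦ1 : ∀ a ∈ fix r, Φ 1 a = a := fun a ha => by
    have := hΦd a ha 1
    rwa [Units.val_one, dd_one, r_one] at this
  have heps : ∀ a ∈ fix r, r (dd (-1)) a = -a := by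
    intro a ha
    have h := (key a ha 1).1
    rw [inv_one, Units.val_one, hΦ1 _ (dd_mem_fix r _ ha), hΦ1 _ (dd_mem_fix r _ ha), ← r_mul,
      dd_mul_dd, show (-1 : Fˣ) * -1 = 1 by simp, dd_one, r_one] at h
    linear_combination (norm := abel) h
  have hΦadd : ∀ a ∈ fix r, ∀ s t, Φ (s + t) a = Φ s a + Φ t a := fun a ha s t => by
    have h2 : r (uu s) (Φ t a) = Φ t a := hΦmem a ha t s
    simp only [hΦ] at h2 ⊢
    rw [map_sub] at h2
    rw [← uu_mul_uu, r_mul]
    linear_combination (norm := abel) h2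
  have hΦmul : ∀ a ∈ fix r, ∀ s t, Φ s (Φ t a) = Φ (s * t) a := fun a ha s t => by
    rcases eq_or_ne s 0 with rfl | hs
    · rw [zero_mul, hΦ0, hΦ0]
    rcases eq_or_ne t 0 with rfl | ht
    · rw [mul_zero, hΦ0]; simp [hΦ]
    have e1 := hΦd a ha (Units.mk0 t ht)
    have e2 := hΦd _ (dd_mem_fix r (Units.mk0 t ht) ha) (Units.mk0 s hs)
    have e3 := hΦd a ha (Units.mk0 s hs * Units.mk0 t ht)
    simp only [Units.val_mk0, Units.val_mul] at e1 e2 e3
    rw [e1, e2, e3, ← r_mul, dd_mul_dd]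
  -- a base point
  have hfne : fix r ≠ ⊥ := hgood ▸ hne
  obtain ⟨⟨a₀, ha₀⟩, ha₀'⟩ := (AddSubgroup.ne_bot_iff_exists_ne_zero).mp hfne
  have ha₀0 : a₀ ≠ 0 := fun e => ha₀' (Subtype.ext e)
  let β : F →+ A := AddMonoidHom.mk' (fun t => Φ t a₀) (hΦadd a₀ ha₀)
  have hβf : ∀ t, β t ∈ fix r := fun t => hΦmem a₀ ha₀ t
  have hβΦ : ∀ s t, Φ s (β t) = β (s * t) := fun s t => hΦmul a₀ ha₀ s t
  have hβinj : ∀ t, β t = 0 → t = 0 := fun t h => by
    by_contra ht
    have h' : r (dd (Units.mk0 t ht)) a₀ = 0 := by rw [← hΦd a₀ ha₀]; exact h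
    exact ha₀0 (r_injective r _ (h'.trans (map_zero _).symm))
  have hβrange : β.range = fix r := by
    refine (hTirr β.range (by rintro _ ⟨t, rfl⟩; exact hβf t) ?_).resolve_left fun e => ?_
    · rintro a _ ⟨t, rfl⟩
      exact ⟨(a : F) * t, by rw [← hβΦ, hΦd _ (hβf t)]⟩
    · have h1 : β 1 ∈ β.range := ⟨1, rfl⟩
      rw [e, AddSubgroup.mem_bot] at h1
      exact one_ne_zero (hβinj 1 h1)
  let Ψ : (Fin 2 → F) →+ A :=
    AddMonoidHom.mk' (fun v => β (v 0) + r wI (β (v 1))) fun v w => by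
      simp only [Pi.add_apply, map_add]; abel
  have hΨbij : Function.Bijective Ψ := by
    refine ⟨(injective_iff_map_eq_zero Ψ).mpr fun v hv => ?_, fun a => ?_⟩
    · obtain ⟨h0, h1⟩ := huniq _ (hβf _) _ (hβf _) hv
      funext i
      fin_cases i
      · exact hβinj _ h0
      · exact hβinj _ h1
    · obtain ⟨_, ⟨b, hb, rfl⟩, c, hc, rfl⟩ :=
        AddSubgroup.mem_sup.mp (hsup.symm ▸ AddSubgroup.mem_top a : a ∈ (fix r).map (r wI) ⊔ fix r)
      obtain ⟨x, rfl⟩ : b ∈ β.range := hβrange.symm ▸ hb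
      obtain ⟨y, rfl⟩ : c ∈ β.range := hβrange.symm ▸ hc
      refine ⟨![y, x], ?_⟩
      show β y + r wI (β x) = r wI (β x) + β y
      exact add_comm _ _
  refine ⟨AddEquiv.ofBijective Ψ hΨbij, ?_⟩
  let H : Subgroup SL(2, F) :=
    { carrier := {g | ∀ v, r g (Ψ v) = Ψ ((g : Matrix (Fin 2) (Fin 2) F) *ᵥ v)}
      one_mem' := fun v => by simp
      mul_mem' := fun {g h} hg hh v => by
        rw [r_mul, hh, hg, Matrix.mulVec_mulVec, ← Matrix.SpecialLinearGroup.coe_mul]
      inv_mem' := fun {g} hg v => by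
        refine r_injective r g ?_
        rw [hg, ← r_mul, mul_inv_cancel, r_one, Matrix.mulVec_mulVec,
          ← Matrix.SpecialLinearGroup.coe_mul, mul_inv_cancel, Matrix.SpecialLinearGroup.coe_one,
          Matrix.one_mulVec] }
  have hH : H = ⊤ := by
    refine eq_top_of_uu_wI (fun t v => ?_) fun v => ?_
    · have e0 : ((uu t : SL(2, F)) : Matrix (Fin 2) (Fin 2) F) *ᵥ v = ![v 0 + t * v 1, v 1] := by
        funext i; fin_cases i <;> simp [Matrix.mulVec, dotProduct, Fin.sum_univ_two]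
      rw [e0]
      show r (uu t) (β (v 0) + r wI (β (v 1))) = β (v 0 + t * v 1) + r wI (β (v 1))
      rw [map_add, hβf, hu, hβΦ, map_add]; abel
    · have e0 : ((wI : SL(2, F)) : Matrix (Fin 2) (Fin 2) F) *ᵥ v = ![-v 1, v 0] := by
        funext i; fin_cases i <;> simp [Matrix.mulVec, dotProduct, Fin.sum_univ_two]
      rw [e0]
      show r wI (β (v 0) + r wI (β (v 1))) = β (-v 1) + r wI (β (v 0))
      rw [map_add, hneg, heps _ (hβf _), map_neg, add_comm]
  intro g v
  exact (show g ∈ H by rw [hH]; trivial) v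

end Cfsg.Agent.SL2Quadratic
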