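import Cfsg.Agent.Lib.PSL2.Basic

/-!
Relations between `uu t`, `dd a` and `wI = (0 -1; 1 0)` in `SL(2, F)` used for the recognition of the
natural module.
-/

set_option autoImplicit false

open Matrix
open scoped MatrixGroups

namespace Cfsg.Agent.SL2Quadratic

open PSL2

variable {F : Type*} [Field F]

/-- `(0 -1; 1 0)`. -/
def wI : SL(2, F) := ⟨!![0, -1; 1, 0], by simp⟩

@[simp] theorem wI00 : (wI : SL(2, F)) 0 0 = 0 := rfl
@[simp] theorem wI01 : (wI : SL(2, F)) 0 1 = -1 := rfl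
@[simp] theorem wI10 : (wI : SL(2, F)) 1 0 = 1 := rfl
@[simp] theorem wI11 : (wI : SL(2, F)) 1 1 = 0 := rfl

theorem wI_mul_wI : (wI : SL(2, F)) * wI = dd (-1) := by
  apply ext2 <;> simp only [mul00, mul01, mul10, mul11] <;> simp

theorem dd_mul_wI (a : Fˣ) : dd a * wI = wI * dd a⁻¹ := by
  apply ext2 <;> simp only [mul00, mul01, mul10, mul11] <;> simp

theorem dd_mul_uu (a : Fˣ) (t : F) : dd a * uu t = uu ((a : F) ^ 2 * t) * dd a := by
  rw [← dd_conj_uu, inv_mul_cancel_right]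

theorem wI_mul_uu_mul_wI (t : Fˣ) :
    wI * uu (t : F) * wI = uu (-((t⁻¹ : Fˣ) : F)) * wI * dd t * uu (-((t⁻¹ : Fˣ) : F)) := by
  apply ext2 <;> simp only [mul00, mul01, mul10, mul11] <;> simp

theorem ll_eq (s : F) : ll s = wI * uu (-s) * wI * dd (-1) := by
  apply ext2 <;> simp only [mul00, mul01, mul10, mul11] <;> simp

theorem uu_ll_uu (t : Fˣ) :
    uu (t : F) * ll (-((t⁻¹ : Fˣ) : F)) * uu (t : F) = dd t * wI * dd (-1) := by
  apply ext2 <;> simp only [mul00, mul01, mul10, mul11] <;> simp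

/-- `uu t` and `wI` generate. -/
theorem eq_top_of_uu_wI {H : Subgroup SL(2, F)} (h₁ : ∀ t, uu t ∈ H) (h₂ : (wI : SL(2, F)) ∈ H) :
    H = ⊤ := by
  refine eq_top_of_uu_ll h₁ fun s => ?_
  rw [ll_eq, ← wI_mul_wI]
  exact H.mul_mem (H.mul_mem (H.mul_mem h₂ (h₁ _)) h₂) (H.mul_mem h₂ h₂)

end Cfsg.Agent.SL2Quadratic
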